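import Cfsg.Agent.Lib.TwoGroups.SquareGen
import Cfsg.Agent.Lib.Transfer.Fusion

/-!
A 2-group with an elementary abelian subgroup of order sixteen which is the centralizer of each
involution of some four-subgroup: the square subgroup of any subgroup has index at most sixteen.
-/

set_option autoImplicit false
set_option linter.style.haveILetI false
set_option linter.unusedSectionVars false

namespace Cfsg.Agent.FourCentralSylow

open Cfsg.Agent.SquareGen
open scoped commutatorElement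

variable {G : Type*} [Group G] [Finite G]

/-- A subgroup covered by two subgroups lies in one of them. -/
theorem le_or_le_of_cover {U A B : Subgroup G} (h : ∀ u ∈ U, u ∈ A ∨ u ∈ B) : U ≤ A ∨ U ≤ B := by
  by_contra hcon
  rw [not_or, SetLike.not_le_iff_exists, SetLike.not_le_iff_exists] at hcon
  obtain ⟨⟨a, ha, haA⟩, c, hc, hcB⟩ := hcon
  have haB : a ∈ B := (h a ha).resolve_left haA
  have hcA : c ∈ A := (h c hc).resolve_right hcB
  rcases h _ (U.mul_mem ha hc) with h' | h'
  · exact haA ((A.mul_mem_cancel_right hcA).1 h')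
  · exact hcB ((B.mul_mem_cancel_left haB).1 h')

/-- The number of pairs and the sum of two subgroups. -/
theorem card_mul_le {A B S : Subgroup G} (hA : A ≤ S) (hB : B ≤ S) :
    Nat.card A * Nat.card B ≤ Nat.card S * Nat.card (A ⊓ B : Subgroup G) := by
  classical
  letI := Fintype.ofFinite G
  let f : A × B → S := fun p => ⟨p.1.1 * p.2.1, S.mul_mem (hA p.1.2) (hB p.2.2)⟩
  rw [← Nat.card_prod, Nat.card_eq_fintype_card (α := A × B), Nat.card_eq_fintype_card (α := S), mul_comm]
  refine Finset.card_le_mul_card_image_of_maps_to (f := f) (fun _ _ => Finset.mem_univ _) _ fun s _ => ?_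
  rcases ((Finset.univ : Finset (A × B)).filter fun p => f p = s).eq_empty_or_nonempty with h | ⟨p₀, hp₀⟩
  · rw [h]; simp
  · rw [Finset.mem_filter] at hp₀
    have key : ∀ p : A × B, f p = s → (p₀.1.1)⁻¹ * p.1.1 = p₀.2.1 * (p.2.1)⁻¹ := by
      intro p hp
      have e : p.1.1 * p.2.1 = p₀.1.1 * p₀.2.1 := congrArg Subtype.val (hp.trans hp₀.2.symm)
      calc (p₀.1.1)⁻¹ * p.1.1 = (p₀.1.1)⁻¹ * (p.1.1 * p.2.1) * (p.2.1)⁻¹ := by group
        _ = p₀.2.1 * (p.2.1)⁻¹ := by rw [e]; group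
    rw [← Fintype.card_coe, ← Nat.card_eq_fintype_card]
    refine Nat.card_le_card_of_injective (fun p => ⟨(p₀.1.1)⁻¹ * p.1.1.1,
      A.mul_mem (A.inv_mem p₀.1.2) p.1.1.2,
      (key p.1 (Finset.mem_filter.1 p.2).2).symm ▸ B.mul_mem p₀.2.2 (B.inv_mem p.1.2.2)⟩) ?_
    intro p p' h
    have e1 : p.1.1.1 = p'.1.1.1 := mul_left_cancel (congrArg Subtype.val h)
    have e2 : p.1.2.1 = p'.1.2.1 := by
      have k : p.1.1.1 * p.1.2.1 = p'.1.1.1 * p'.1.2.1 := congrArg Subtype.val
        ((Finset.mem_filter.1 p.2).2.trans (Finset.mem_filter.1 p'.2).2.symm)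
      rw [e1] at k
      exact mul_left_cancel k
    exact Subtype.ext (Prod.ext (Subtype.ext e1) (Subtype.ext e2))

/-- The standing hypotheses. -/
structure Sixteen (S E B : Subgroup G) : Prop where
  isP : IsPGroup 2 S
  le : E ≤ S
  sq' : ∀ e ∈ E, e * e = 1
  card : Nat.card E = 16
  Ble : B ≤ E
  cardB : Nat.card B = 4
  cent : ∀ b ∈ B, b ≠ 1 → ∀ s ∈ S, s * b = b * s → s ∈ E

namespace Sixteen

variable {S E B : Subgroup G}

theorem comm (h : Sixteen S E B) {a c : G} (ha : a ∈ E) (hc : c ∈ E) : a * c = c * a := by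
  have h1 := h.sq' _ (E.mul_mem ha hc)
  calc a * c = (a * c)⁻¹ := (inv_eq_of_mul_eq_one_right h1).symm
    _ = c * a := by
      rw [mul_inv_rev, inv_eq_of_mul_eq_one_right (h.sq' a ha), inv_eq_of_mul_eq_one_right (h.sq' c hc)]

theorem exists_b_mem (h : Sixteen S E B) {U : Subgroup G} (hU : U ≤ E) (h8 : 4 < Nat.card U) :
    ∃ b ∈ B, b ≠ 1 ∧ b ∈ U := by
  by_contra! hcon
  have hbot : U ⊓ B = ⊥ := by
    rw [eq_bot_iff]
    intro x hx
    rw [Subgroup.mem_bot]
    by_contra hx1
    exact hcon x hx.2 hx1 hx.1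
  have h1 := card_mul_le hU h.Ble
  rw [hbot, Subgroup.card_bot, h.cardB, h.card] at h1
  omega

theorem exists_b (h : Sixteen S E B) : ∃ b ∈ B, b ≠ 1 := by
  obtain ⟨b, hb, hb1, -⟩ := h.exists_b_mem le_rfl (by rw [h.card]; norm_num)
  exact ⟨b, hb, hb1⟩

/-- Subgroups of `S` normalising `E` are small. -/
theorem card_le_of_normalizes (h : Sixteen S E B) {Y : Subgroup G} (hYS : Y ≤ S) (hEY : E ≤ Y)
    (hYN : Y ≤ Subgroup.normalizer (E : Set G)) : Nat.card Y ≤ 64 := by
  classical
  haveI : Fact (Nat.Prime 2) := ⟨Nat.prime_two⟩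
  have hYnil : Group.IsNilpotent Y := (h.isP.to_le hYS).isNilpotent
  set M := ⁅E, Y⁆ with hM
  have hMle : M ≤ E := Subgroup.commutator_le.2 fun e he y hy => by
    rw [commutatorElement_def, mul_assoc e, mul_assoc e]
    exact E.mul_mem he ((Subgroup.mem_normalizer_iff.1 (hYN hy) e⁻¹).1 (E.inv_mem he))
  have hMne : M ≠ E := fun e => by
    have := Fusion.le_of_le_commutator_sup hYnil hEY bot_le
      (fun x _ => by rw [Subgroup.mem_normalizer_iff]; intro y; simp) (Q := E) (by rw [sup_bot_eq, ← hM, e])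
    rw [le_bot_iff] at this
    have h16 := h.card
    rw [this, Subgroup.card_bot] at h16
    omega
  have hM8 : Nat.card M ≤ 8 := by
    have hlt : Nat.card M < 16 := by
      rw [← h.card]
      exact lt_of_le_of_ne (Subgroup.card_le_of_le hMle) fun e =>
        hMne (Subgroup.eq_of_le_of_card_ge hMle e.ge)
    obtain ⟨k, hk, hk'⟩ := (Nat.dvd_prime_pow Nat.prime_two).1
      (show Nat.card M ∣ 2 ^ 4 by rw [show 2 ^ 4 = 16 by norm_num, ← h.card]; exact Subgroup.card_dvd_of_le hMle)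
    rw [hk'] at hlt ⊢
    interval_cases k <;> omega
  -- the orbit of an involution of `B`
  have orbit : ∀ b ∈ B, b ≠ 1 → Nat.card Y ≤ 16 * Nat.card M ∧ (b ∈ M → Nat.card Y < 16 * Nat.card M) := by
    intro b hb hb1
    let f : Y → M := fun y => ⟨b * (y : G) * b⁻¹ * (y : G)⁻¹,
      commutatorElement_def b (y : G) ▸ Subgroup.commutator_mem_commutator (h.Ble hb) y.2⟩
    have hfib : ∀ y y' : Y, f y = f y' → (y' : G)⁻¹ * y ∈ E := by
      intro y y' e
      have e' : b * (y : G) * b⁻¹ * (y : G)⁻¹ = b * (y' : G) * b⁻¹ * (y' : G)⁻¹ := congrArg Subtype.val e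
      have e2 : (y : G) * b⁻¹ * (y : G)⁻¹ = (y' : G) * b⁻¹ * (y' : G)⁻¹ := by
        rw [mul_assoc b, mul_assoc b, mul_assoc b, mul_assoc b, mul_right_inj] at e'
        exact e'
      refine h.cent b hb hb1 _ (S.mul_mem (S.inv_mem (hYS y'.2)) (hYS y.2)) ?_
      have hbi : b⁻¹ = b := inv_eq_of_mul_eq_one_right (h.sq' b (h.Ble hb))
      rw [hbi] at e2
      calc (y' : G)⁻¹ * y * b = (y' : G)⁻¹ * ((y : G) * b * (y : G)⁻¹) * y := by group
        _ = b * ((y' : G)⁻¹ * y) := by rw [e2]; group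
    letI := Fintype.ofFinite G
    have count : ∀ T : Finset M, (∀ y, f y ∈ T) → Nat.card Y ≤ 16 * T.card := fun T hT => by
      rw [Nat.card_eq_fintype_card]
      refine Finset.card_le_mul_card_image_of_maps_to (f := f) (fun y _ => hT y) 16 fun m _ => ?_
      rcases ((Finset.univ : Finset Y).filter fun y => f y = m).eq_empty_or_nonempty with he | ⟨y₀, hy₀⟩
      · rw [he]; simp
      · rw [Finset.mem_filter] at hy₀
        rw [← h.card, ← Fintype.card_coe, ← Nat.card_eq_fintype_card]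
        refine Nat.card_le_card_of_injective (fun y => (⟨(y₀ : G)⁻¹ * y.1,
          hfib y.1 y₀ ((Finset.mem_filter.1 y.2).2.trans hy₀.2.symm)⟩ : E)) fun y y' e => ?_
        exact Subtype.ext (Subtype.ext (mul_left_cancel (congrArg Subtype.val e)))
    refine ⟨?_, fun hbM => ?_⟩
    · have := count Finset.univ fun y => Finset.mem_univ _
      rwa [Finset.card_univ, ← Nat.card_eq_fintype_card] at this
    · have := count (Finset.univ.erase ⟨b, hbM⟩) fun y => Finset.mem_erase.2 ⟨fun e => hb1 ?_, Finset.mem_univ _⟩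
      · rw [Finset.card_erase_of_mem (Finset.mem_univ _), Finset.card_univ, ← Nat.card_eq_fintype_card] at this
        have hpos : 0 < Nat.card M := Nat.card_pos
        omega
      · have e' : b * (y : G) * b⁻¹ * (y : G)⁻¹ = b := congrArg Subtype.val e
        have e'' : (y : G) * b⁻¹ * (y : G)⁻¹ = 1 := by
          rw [mul_assoc b, mul_assoc b, mul_eq_left] at e'
          exact e'
        rw [mul_inv_eq_one, mul_eq_left, inv_eq_one] at e''
        exact e''
  have hdvd : ∃ k, Nat.card Y = 2 ^ k := IsPGroup.iff_card.1 (h.isP.to_le hYS)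
  obtain ⟨k, hk⟩ := hdvd
  have key : Nat.card Y < 128 := by
    by_cases h4 : Nat.card M ≤ 4
    · obtain ⟨b, hb, hb1⟩ := h.exists_b
      have := (orbit b hb hb1).1
      omega
    · obtain ⟨b, hb, hb1, hbM⟩ := h.exists_b_mem hMle (by omega)
      have := (orbit b hb hb1).2 hbM
      omega
  rw [hk] at key ⊢
  have : k < 7 := (Nat.pow_lt_pow_iff_right one_lt_two).1 (by simpa using key)
  calc 2 ^ k ≤ 2 ^ 6 := Nat.pow_le_pow_right two_pos (by omega)
    _ = 64 := by norm_num

set_option maxHeartbeats 1600000 in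
/-- The whole group has order at most 128, and if more than 64 the subgroups of order 16 in a
subgroup of index two are conjugates of `E`. -/
theorem card_le_or (h : Sixteen S E B) : Nat.card S ≤ 64 ∨
    ∃ (E' Y : Subgroup G) (g : G), g ∈ S ∧ E' = E.map (MulAut.conj g).toMonoidHom ∧ Y ≤ S ∧
      Nat.card S = 128 ∧ Nat.card Y = 64 ∧ ∀ a ∈ Y, a * a = 1 → a ∈ E ∨ a ∈ E' := by
  classical
  haveI : Fact (Nat.Prime 2) := ⟨Nat.prime_two⟩
  set Y := S ⊓ Subgroup.normalizer (E : Set G) with hY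
  have hEY : E ≤ Y := le_inf h.le Subgroup.le_normalizer
  have hY64 : Nat.card Y ≤ 64 := h.card_le_of_normalizes inf_le_left hEY inf_le_right
  rcases eq_or_lt_of_le (inf_le_left : Y ≤ S) with hYS | hYS
  · left; rwa [← hYS]
  have hSnil : Group.IsNilpotent S := h.isP.isNilpotent
  obtain ⟨g, hg, hgY⟩ := SetLike.exists_of_lt (Fusion.lt_inf_normalizer hSnil hYS)
  have hgS : g ∈ S := hg.1
  set E' := E.map (MulAut.conj g).toMonoidHom with hE'
  have memE' : ∀ {a : G}, a ∈ E' → g⁻¹ * a * g ∈ E := by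
    rintro _ ⟨e, he, rfl⟩
    simpa [mul_assoc] using he
  have hcardE' : Nat.card E' = 16 := by
    rw [hE', Subgroup.card_map_of_injective (MulAut.conj g).injective, h.card]
  have hE'Y : E' ≤ Y := by
    rintro _ ⟨e, he, rfl⟩
    exact (Subgroup.mem_normalizer_iff.1 hg.2 e).1 (hEY he)
  have hE'ne : E' ≠ E := fun e => hgY ⟨hgS, by
    refine Subgroup.mem_normalizer_iff.2 fun x => ?_
    constructor
    · intro hx
      exact e ▸ (⟨x, hx, rfl⟩ : g * x * g⁻¹ ∈ E')
    · intro hx
      have := memE' (e.symm ▸ hx)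
      simpa [mul_assoc] using this⟩
  have hbE' : ∀ b ∈ B, b ≠ 1 → b ∉ E' := by
    intro b hb hb1 hbE
    refine hE'ne (Subgroup.eq_of_le_of_card_ge (fun a ha => ?_) (by rw [hcardE', h.card]))
    refine h.cent b hb hb1 a ((hE'Y ha).1) ?_
    have h1 := h.comm (memE' ha) (memE' hbE)
    calc a * b = g * ((g⁻¹ * a * g) * (g⁻¹ * b * g)) * g⁻¹ := by group
      _ = b * a := by rw [h1]; group
  have hW : Nat.card (E ⊓ E' : Subgroup G) ≤ 4 := by
    by_contra hlt
    obtain ⟨b, hb, hb1, hbW⟩ := h.exists_b_mem (inf_le_left : E ⊓ E' ≤ E) (by omega)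
    exact hbE' b hb hb1 hbW.2
  have hprod := card_mul_le hEY hE'Y
  rw [h.card, hcardE'] at hprod
  have hW4 : Nat.card (E ⊓ E' : Subgroup G) = 4 := by nlinarith
  have hYcard : Nat.card Y = 64 := by rw [hW4] at hprod; omega
  -- `Y = E E'`
  let F : E × E' → Y := fun p => ⟨p.1.1 * p.2.1, Y.mul_mem (hEY p.1.2) (hE'Y p.2.2)⟩
  have hsurj : ∀ y ∈ Y, ∃ e ∈ E, ∃ f ∈ E', y = e * f := by
    intro y hy
    by_contra! hcon
    letI := Fintype.ofFinite G
    have himg : (Finset.univ.image F).card ≤ 63 := by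
      have : Finset.univ.image F ⊆ Finset.univ.erase ⟨y, hy⟩ := fun x hx => by
        obtain ⟨p, -, rfl⟩ := Finset.mem_image.1 hx
        exact Finset.mem_erase.2 ⟨fun e => hcon _ p.1.2 _ p.2.2 (congrArg Subtype.val e).symm, Finset.mem_univ _⟩
      refine (Finset.card_le_card this).trans ?_
      rw [Finset.card_erase_of_mem (Finset.mem_univ _), Finset.card_univ, ← Nat.card_eq_fintype_card, hYcard]
    have hle : Fintype.card (E × E') ≤ 4 * (Finset.univ.image F).card := by
      refine Finset.card_le_mul_card_image_of_maps_to (f := F) (fun p _ => Finset.mem_image_of_mem F (Finset.mem_univ p)) 4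
        fun m _ => ?_
      rcases ((Finset.univ : Finset (E × E')).filter fun p => F p = m).eq_empty_or_nonempty with he | ⟨p₀, hp₀⟩
      · rw [he]; simp
      · rw [Finset.mem_filter] at hp₀
        rw [← Fintype.card_coe, ← Nat.card_eq_fintype_card]
        refine le_trans ?_ hW4.le
        refine Nat.card_le_card_of_injective (fun p => (⟨(p₀.1.1)⁻¹ * p.1.1.1, ?_, ?_⟩ : (E ⊓ E' : Subgroup G))) ?_
        · exact E.mul_mem (E.inv_mem p₀.1.2) p.1.1.2
        · have e : p.1.1.1 * p.1.2.1 = p₀.1.1 * p₀.2.1 :=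
            congrArg Subtype.val ((Finset.mem_filter.1 p.2).2.trans hp₀.2.symm)
          have e2 : (p₀.1.1)⁻¹ * p.1.1.1 = p₀.2.1 * (p.1.2.1)⁻¹ := by
            calc (p₀.1.1)⁻¹ * p.1.1.1 = (p₀.1.1)⁻¹ * (p.1.1.1 * p.1.2.1) * (p.1.2.1)⁻¹ := by group
              _ = p₀.2.1 * (p.1.2.1)⁻¹ := by rw [e]; group
          rw [e2]
          exact E'.mul_mem p₀.2.2 (E'.inv_mem p.1.2.2)
        · intro p p' hpp
          have e1 : p.1.1.1 = p'.1.1.1 := mul_left_cancel (congrArg Subtype.val hpp)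
          have k : p.1.1.1 * p.1.2.1 = p'.1.1.1 * p'.1.2.1 :=
            congrArg Subtype.val ((Finset.mem_filter.1 p.2).2.trans (Finset.mem_filter.1 p'.2).2.symm)
          rw [e1] at k
          exact Subtype.ext (Prod.ext (Subtype.ext e1) (Subtype.ext (mul_left_cancel k)))
    rw [← Nat.card_eq_fintype_card, Nat.card_prod, h.card, hcardE'] at hle
    omega
  have hinv : ∀ a ∈ Y, a * a = 1 → a ∈ E ∨ a ∈ E' := by
    intro a ha ha2
    obtain ⟨e, he, f, hf, rfl⟩ := hsurj a ha
    by_cases hfE : f ∈ E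
    · exact Or.inl (E.mul_mem he hfE)
    refine Or.inr (E'.mul_mem ?_ hf)
    have he2 := h.sq' e he
    have hf2 : f * f = 1 := by
      have h1 := h.sq' _ (memE' hf)
      calc f * f = g * ((g⁻¹ * f * g) * (g⁻¹ * f * g)) * g⁻¹ := by group
        _ = 1 := by rw [h1]; group
    have hef : e * f = f * e := by
      calc e * f = (e * f)⁻¹ := (inv_eq_of_mul_eq_one_right ha2).symm
        _ = f * e := by
          rw [mul_inv_rev, inv_eq_of_mul_eq_one_right he2, inv_eq_of_mul_eq_one_right hf2]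
    -- the centralizer of `f` in `E` is the intersection
    set U := E ⊓ Subgroup.centralizer ({f} : Set G) with hU
    have hWU : E ⊓ E' ≤ U := fun w hw => ⟨hw.1, Subgroup.mem_centralizer_singleton_iff.2 (by
      have h1 := h.comm (memE' hw.2) (memE' hf)
      calc w * f = g * ((g⁻¹ * w * g) * (g⁻¹ * f * g)) * g⁻¹ := by group
        _ = f * w := by rw [h1]; group)⟩
    have hUle : Nat.card U ≤ 4 := by
      by_contra hlt
      obtain ⟨b, hb, hb1, hbU⟩ := h.exists_b_mem (inf_le_left : U ≤ E) (not_le.1 hlt)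
      exact hfE (h.cent b hb hb1 f ((hE'Y hf).1) (Subgroup.mem_centralizer_singleton_iff.1 hbU.2).symm)
    have heq : E ⊓ E' = U := Subgroup.eq_of_le_of_card_ge hWU (by omega)
    exact (heq.symm ▸ (⟨he, Subgroup.mem_centralizer_singleton_iff.2 hef⟩ : e ∈ U) : e ∈ E ⊓ E').2
  refine Or.inr ⟨E', Y, g, hgS, rfl, inf_le_left, ?_, hYcard, hinv⟩
  -- the normalizer of `Y` is everything and contains `Y` with index two
  set N := S ⊓ Subgroup.normalizer (Y : Set G) with hN
  have perm : ∀ U : Subgroup G, U ≤ Y → Nat.card U = 16 → (∀ u ∈ U, u * u = 1) → U = E ∨ U = E' := by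
    intro U hU h16 h2
    rcases le_or_le_of_cover fun u hu => hinv u (hU hu) (h2 u hu) with hle | hle
    · exact Or.inl (Subgroup.eq_of_le_of_card_ge hle (by rw [h16, h.card]))
    · exact Or.inr (Subgroup.eq_of_le_of_card_ge hle (by rw [h16, hcardE']))
  have hsqE' : ∀ e ∈ E', e * e = 1 := fun e he => by
    have h1 := h.sq' _ (memE' he)
    calc e * e = g * ((g⁻¹ * e * g) * (g⁻¹ * e * g)) * g⁻¹ := by group
      _ = 1 := by rw [h1]; group
  have hNcases : ∀ n ∈ N, n ∈ Y ∨ g⁻¹ * n ∈ Y := by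
    intro n hn
    set U := E.map (MulAut.conj n).toMonoidHom with hU
    have hUY : U ≤ Y := by
      rintro _ ⟨e, he, rfl⟩
      exact (Subgroup.mem_normalizer_iff.1 hn.2 e).1 (hEY he)
    have key : ∀ m : G, m ∈ S → (∀ e ∈ E, m * e * m⁻¹ ∈ E) → m ∈ Y := by
      intro m hm hme
      refine ⟨hm, Subgroup.mem_normalizer_iff.2 fun x => ⟨hme x, fun hx => ?_⟩⟩
      have hEm : E.map (MulAut.conj m).toMonoidHom = E := by
        refine Subgroup.eq_of_le_of_card_ge ?_ ?_
        · rintro _ ⟨e, he, rfl⟩; exact hme e he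
        · rw [Subgroup.card_map_of_injective (MulAut.conj m).injective]
      obtain ⟨e, he, hee⟩ := (hEm.symm ▸ hx : m * x * m⁻¹ ∈ E.map (MulAut.conj m).toMonoidHom)
      have : e = x := (MulAut.conj m).injective hee
      exact this ▸ he
    rcases perm U hUY (by rw [hU, Subgroup.card_map_of_injective (MulAut.conj n).injective, h.card])
      (by rintro _ ⟨e, he, rfl⟩; rw [← map_mul, h.sq' e he, map_one]) with hUE | hUE
    · exact Or.inl (key n hn.1 fun e he => hUE ▸ (⟨e, he, rfl⟩ : n * e * n⁻¹ ∈ U))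
    · refine Or.inr (key _ (S.mul_mem (S.inv_mem hgS) hn.1) fun e he => ?_)
      have h1 : n * e * n⁻¹ ∈ E' := hUE ▸ (⟨e, he, rfl⟩ : n * e * n⁻¹ ∈ U)
      have h2 := memE' h1
      rw [show g⁻¹ * n * e * (g⁻¹ * n)⁻¹ = g⁻¹ * (n * e * n⁻¹) * g by group]
      exact h2
  have hgN : g ∈ N := hg
  have hN128 : Nat.card N ≤ 128 := by
    have hYN : Y ≤ N := le_inf inf_le_left Subgroup.le_normalizer
    let F2 : Fin 2 × Y → N := fun p => ⟨(if p.1 = 0 then 1 else g) * p.2.1, N.mul_mem (by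
      split_ifs
      · exact N.one_mem
      · exact hgN) (hYN p.2.2)⟩
    have := Nat.card_le_card_of_surjective F2 fun n => by
      rcases hNcases n n.2 with hn | hn
      · exact ⟨(0, ⟨n, hn⟩), Subtype.ext (by simp [F2])⟩
      · exact ⟨(1, ⟨_, hn⟩), Subtype.ext (by simp [F2])⟩
    rw [Nat.card_prod, hYcard] at this
    simpa using this
  have hNS : N = S := by
    rcases eq_or_lt_of_le (inf_le_left : N ≤ S) with e | hlt
    · exact e
    exfalso
    obtain ⟨k, hk, hkN⟩ := SetLike.exists_of_lt (Fusion.lt_inf_normalizer hSnil hlt)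
    -- conjugates of `E` and `E'` inside `N` lie in `Y`
    have hin : ∀ U : Subgroup G, (∃ m : G, U = E.map (MulAut.conj m).toMonoidHom) → U ≤ N → U = E ∨ U = E' := by
      rintro U ⟨m, rfl⟩ hUN
      have hsqU : ∀ u ∈ E.map (MulAut.conj m).toMonoidHom, u * u = 1 := by
        rintro _ ⟨e, he, rfl⟩; rw [← map_mul, h.sq' e he, map_one]
      set U := E.map (MulAut.conj m).toMonoidHom with hU
      have hU16 : Nat.card U = 16 := by rw [hU, Subgroup.card_map_of_injective (MulAut.conj m).injective, h.card]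
      have hUY8 : 8 ≤ Nat.card (U ⊓ Y : Subgroup G) := by
        have h1 := card_mul_le (S := N) hUN (le_inf inf_le_left Subgroup.le_normalizer : Y ≤ N)
        rw [hU16, hYcard] at h1
        nlinarith
      have hUS : U ≤ S := hUN.trans inf_le_left
      rcases le_or_le_of_cover fun u (hu : u ∈ U ⊓ Y) => hinv u hu.2 (hsqU u hu.1) with hle | hle
      · left
        obtain ⟨b, hb, hb1, hbU⟩ := h.exists_b_mem hle (by omega)
        refine Subgroup.eq_of_le_of_card_ge (fun a ha => h.cent b hb hb1 a (hUS ha) ?_) (by rw [hU16, h.card])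
        have h2 := hsqU _ (U.mul_mem ha hbU.1)
        calc a * b = (a * b)⁻¹ := (inv_eq_of_mul_eq_one_right h2).symm
          _ = b * a := by rw [mul_inv_rev, inv_eq_of_mul_eq_one_right (hsqU b hbU.1),
              inv_eq_of_mul_eq_one_right (hsqU a ha)]
      · right
        set V := (U ⊓ Y).map (MulAut.conj g⁻¹).toMonoidHom with hV
        have hVE : V ≤ E := by
          rintro _ ⟨u, hu, rfl⟩
          simpa using memE' (hle hu)
        obtain ⟨b, hb, hb1, hbV⟩ := h.exists_b_mem hVE (by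
          rw [hV, Subgroup.card_map_of_injective (MulAut.conj g⁻¹).injective]; omega)
        obtain ⟨u, hu, hub⟩ := hbV
        have hub' : g⁻¹ * u * g = b := by simpa using hub
        refine Subgroup.eq_of_le_of_card_ge (fun a ha => ?_) (by rw [hU16, hcardE'])
        have hcom : a * u = u * a := by
          have h2 := hsqU _ (U.mul_mem ha hu.1)
          calc a * u = (a * u)⁻¹ := (inv_eq_of_mul_eq_one_right h2).symm
            _ = u * a := by rw [mul_inv_rev, inv_eq_of_mul_eq_one_right (hsqU u hu.1),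
                inv_eq_of_mul_eq_one_right (hsqU a ha)]
        have h3 := h.cent b hb hb1 (g⁻¹ * a * g) (S.mul_mem (S.mul_mem (S.inv_mem hgS) (hUS ha)) hgS) (by
          rw [← hub']
          calc g⁻¹ * a * g * (g⁻¹ * u * g) = g⁻¹ * (a * u) * g := by group
            _ = g⁻¹ * u * g * (g⁻¹ * a * g) := by rw [hcom]; group)
        exact ⟨g⁻¹ * a * g, h3, by simp [mul_assoc]⟩
    have hconjN : ∀ u ∈ Y, k * u * k⁻¹ ∈ N := fun u hu =>
      (Subgroup.mem_normalizer_iff.1 hk.2 u).1 (le_inf inf_le_left Subgroup.le_normalizer hu)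
    have hmapY : ∀ m : G, E.map (MulAut.conj m).toMonoidHom ≤ Y →
        ∀ e ∈ E, k * (m * e * m⁻¹) * k⁻¹ ∈ Y := by
      intro m hm e he
      have h1 := hin (E.map (MulAut.conj (k * m)).toMonoidHom) ⟨_, rfl⟩ (by
        rintro _ ⟨x, hx, rfl⟩
        have := hconjN _ (hm ⟨x, hx, rfl⟩)
        simpa [mul_assoc] using this)
      have hmem : k * (m * e * m⁻¹) * k⁻¹ ∈ E.map (MulAut.conj (k * m)).toMonoidHom :=
        ⟨e, he, by simp [mul_assoc]⟩
      rcases h1 with e1 | e1 <;> rw [e1] at hmem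
      · exact hEY hmem
      · exact hE'Y hmem
    apply hkN
    refine ⟨hk.1, Subgroup.mem_normalizer_iff.2 fun x => ?_⟩
    have hfor : ∀ y ∈ Y, k * y * k⁻¹ ∈ Y := by
      intro y hy
      obtain ⟨e, he, f, ⟨e₂, he₂, rfl⟩, rfl⟩ := hsurj y hy
      have h1 := hmapY 1 (by rintro _ ⟨x, hx, rfl⟩; simpa using hEY hx) e he
      have h2 := hmapY g hE'Y e₂ he₂
      rw [one_mul, inv_one, mul_one] at h1
      have := Y.mul_mem h1 h2
      simpa [mul_assoc] using this
    refine ⟨hfor x, fun hx => ?_⟩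
    have hmap : Y.map (MulAut.conj k).toMonoidHom = Y := by
      refine Subgroup.eq_of_le_of_card_ge ?_ ?_
      · rintro _ ⟨y, hy, rfl⟩; exact hfor y hy
      · rw [Subgroup.card_map_of_injective (MulAut.conj k).injective]
    obtain ⟨y, hy, hyx⟩ := (hmap.symm ▸ hx : k * x * k⁻¹ ∈ Y.map (MulAut.conj k).toMonoidHom)
    exact (MulAut.conj k).injective hyx ▸ hy
  obtain ⟨j, hj⟩ := IsPGroup.iff_card.1 h.isP
  have hgt : 64 < Nat.card S := by
    rw [← hYcard]
    refine lt_of_le_of_ne (Subgroup.card_le_of_le hYS.le) fun e => hYS.ne ?_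
    exact Subgroup.eq_of_le_of_card_ge hYS.le e.ge
  rw [hNS] at hN128
  rw [hj] at hgt hN128 ⊢
  have h7 : j ≤ 7 := (Nat.pow_le_pow_iff_right one_lt_two).1 (show 2 ^ j ≤ 2 ^ 7 by simpa using hN128)
  interval_cases j <;> simp_all

/-- Every subgroup has square subgroup of index at most sixteen. -/
theorem card_le_sq (h : Sixteen S E B) {H : Subgroup G} (hH : H ≤ S) : Nat.card H ≤ 16 * Nat.card (sq H) := by
  classical
  by_contra hlt
  push Not at hlt
  have hB0 : ∀ (g : G), g ∈ S → ∀ b ∈ B, b ≠ 1 → g * b * g⁻¹ ∉ H := by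
    intro g hg b hb hb1 hbH
    letI := Fintype.ofFinite G
    set c := g * b * g⁻¹ with hc
    let f : H → sq H := fun x => ⟨x.1 * c * x.1⁻¹ * c⁻¹, commutator_mem_sq x.2 hbH⟩
    have hle : Fintype.card H ≤ 16 * Fintype.card (sq H) := by
      rw [← Finset.card_univ, ← Finset.card_univ (α := sq H)]
      refine Finset.card_le_mul_card_image_of_maps_to (f := f) (fun _ _ => Finset.mem_univ _) 16 fun m _ => ?_
      rcases ((Finset.univ : Finset H).filter fun x => f x = m).eq_empty_or_nonempty with he | ⟨x₀, hx₀⟩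
      · rw [he]; simp
      · rw [Finset.mem_filter] at hx₀
        rw [← h.card, ← Fintype.card_coe, ← Nat.card_eq_fintype_card]
        refine Nat.card_le_card_of_injective (fun x => (⟨g⁻¹ * ((x₀ : G)⁻¹ * x.1) * g, ?_⟩ : E)) ?_
        · refine h.cent b hb hb1 _ (S.mul_mem (S.mul_mem (S.inv_mem hg)
            (S.mul_mem (S.inv_mem (hH x₀.2)) (hH x.1.2))) hg) ?_
          have e : x.1.1 * c * x.1.1⁻¹ * c⁻¹ = x₀.1 * c * x₀.1⁻¹ * c⁻¹ :=
            congrArg Subtype.val ((Finset.mem_filter.1 x.2).2.trans hx₀.2.symm)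
          rw [mul_left_inj] at e
          have e2 : (x₀ : G)⁻¹ * x.1.1 * c = c * ((x₀ : G)⁻¹ * x.1.1) := by
            calc (x₀ : G)⁻¹ * x.1.1 * c = (x₀ : G)⁻¹ * (x.1.1 * c * x.1.1⁻¹) * x.1.1 := by group
              _ = c * ((x₀ : G)⁻¹ * x.1.1) := by rw [e]; group
          calc g⁻¹ * ((x₀ : G)⁻¹ * x.1.1) * g * b = g⁻¹ * ((x₀ : G)⁻¹ * x.1.1 * c) * g := by
                rw [hc]; group
            _ = b * (g⁻¹ * ((x₀ : G)⁻¹ * x.1.1) * g) := by rw [e2, hc]; group
        · intro x x' e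
          exact Subtype.ext (Subtype.ext (mul_left_cancel (mul_left_cancel (mul_right_cancel (congrArg Subtype.val e)))))
    rw [← Nat.card_eq_fintype_card, ← Nat.card_eq_fintype_card] at hle
    omega
  have hB : ∀ b ∈ B, b ≠ 1 → b ∉ H := fun b hb hb1 => by simpa using hB0 1 S.one_mem b hb hb1
  have hHE : Nat.card (H ⊓ E : Subgroup G) ≤ 4 := by
    by_contra h5
    obtain ⟨b, hb, hb1, hbH⟩ := h.exists_b_mem (inf_le_right : H ⊓ E ≤ E) (by omega)
    exact hB b hb hb1 hbH.1
  have hprod := card_mul_le hH h.le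
  rw [h.card] at hprod
  obtain ⟨i, hi⟩ := IsPGroup.iff_card.1 (h.isP.to_le hH)
  have hsq1 : 1 ≤ Nat.card (sq H) := Nat.card_pos
  have h32 : 32 ≤ Nat.card H := by
    have h4 : 2 ^ 4 < 2 ^ i := by rw [← hi]; omega
    rw [hi]
    calc 32 = 2 ^ 5 := by norm_num
      _ ≤ 2 ^ i := Nat.pow_le_pow_right two_pos (by
        have := (Nat.pow_lt_pow_iff_right one_lt_two).1 h4; omega)
  rcases h.card_le_or with hS | ⟨E', Y, g, hg, hE', hY, hS, hY64, hinv⟩
  · nlinarith
  have hH32 : Nat.card H = 32 := by nlinarith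
  have hsq : ∀ x ∈ H, x * x = 1 := by
    intro x hx
    have hbot : sq H = ⊥ := Subgroup.eq_bot_of_card_le _ (by omega)
    have h1 : x ^ 2 ∈ sq H := sq_mem hx
    rw [hbot, Subgroup.mem_bot, pow_two] at h1
    exact h1
  have hHY : 16 ≤ Nat.card (H ⊓ Y : Subgroup G) := by
    have h1 := card_mul_le hH hY
    rw [hH32, hY64, hS] at h1
    omega
  have h4' : 4 < Nat.card (H ⊓ Y : Subgroup G) := by omega
  rcases le_or_le_of_cover fun u (hu : u ∈ H ⊓ Y) => hinv u hu.2 (hsq u hu.1) with hle | hle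
  · obtain ⟨b, hb, hb1, hbH⟩ := h.exists_b_mem hle h4'
    exact hB b hb hb1 hbH.1
  · set V := (H ⊓ Y).map (MulAut.conj g⁻¹).toMonoidHom with hV
    have hVE : V ≤ E := by
      rintro _ ⟨u, hu, rfl⟩
      obtain ⟨e, he, heu⟩ := (hE' ▸ hle hu : u ∈ E.map (MulAut.conj g).toMonoidHom)
      rw [← heu]
      simpa [mul_assoc] using he
    obtain ⟨b, hb, hb1, u, hu, hub⟩ := h.exists_b_mem hVE (by
      rw [hV, Subgroup.card_map_of_injective (MulAut.conj g⁻¹).injective]; exact h4')
    refine hB0 g hg b hb hb1 ?_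
    rw [← hub]
    simpa [mul_assoc] using hu.1

end Sixteen

end Cfsg.Agent.FourCentralSylow
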