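import Cfsg.Agent.Lib.FourCentralSylow.Sixteen
import Cfsg.Prelude.Def_TwoFusion

/-!
A group whose Sylow 2-subgroup is close to a product of a dihedral or semidihedral group and a
four-subgroup: every section has 2-rank at most four.
-/

set_option autoImplicit false
set_option linter.style.haveILetI false
set_option linter.unusedSectionVars false

namespace Cfsg.Agent.FourCentralSylow

open Cfsg.Agent.SquareGen hiding sq
open Cfsg.Agent

variable {G : Type*} [Group G] [Finite G]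

/-- A bound for the square subgroups in a Sylow 2-subgroup bounds the sectional rank. -/
theorem sectional_of_sylow {k : ℕ} (S : Sylow 2 G)
    (h : ∀ H ≤ (S : Subgroup G), Nat.card H ≤ 2 ^ k * Nat.card (SquareGen.sq H)) :
    Cfsg.SectionalPRankLE 2 k G := by
  haveI : Fact (Nat.Prime 2) := ⟨Nat.prime_two⟩
  intro H N hN A hA hexp
  set f := QuotientGroup.mk' N with hf
  set L : Subgroup H := A.comap f with hL
  have hAp : IsPGroup 2 A := fun a => ⟨1, Subtype.ext (by simpa using hexp a.1 a.2)⟩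
  let F : L →* A := (f.domRestrict L).codRestrict A fun x => x.2
  have hF : Function.Surjective F := fun a => by
    obtain ⟨u, hu⟩ := QuotientGroup.mk'_surjective N a.1
    exact ⟨⟨u, show f u ∈ A by rw [hf, hu]; exact a.2⟩, Subtype.ext hu⟩
  obtain ⟨P⟩ : Nonempty (Sylow 2 L) := inferInstance
  have hPA : ∀ a : A, ∃ u : L, u ∈ (P : Subgroup L) ∧ F u = a := by
    intro a
    have htop : ((P.mapSurjective hF : Sylow 2 A) : Subgroup A) = ⊤ :=
      ((P.mapSurjective hF).is_maximal'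
        (hAp.to_subgroup ⊤) le_top).symm
    have ha : a ∈ ((P.mapSurjective hF : Sylow 2 A) : Subgroup A) := by rw [htop]; trivial
    rw [Sylow.coe_mapSurjective, Subgroup.mem_map] at ha
    exact ha
  set P0 : Subgroup H := (P : Subgroup L).map L.subtype with hP0
  have hmap : P0.map f = A := by
    refine le_antisymm ?_ fun a ha => ?_
    · rintro _ ⟨_, ⟨u, -, rfl⟩, rfl⟩; exact u.2
    · obtain ⟨u, hu, hua⟩ := hPA ⟨a, ha⟩
      exact ⟨u.1, ⟨u, hu, rfl⟩, congrArg Subtype.val hua⟩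
  set P1 : Subgroup G := P0.map H.subtype with hP1
  obtain ⟨Q, hQ⟩ := ((P.2.map L.subtype).map H.subtype : IsPGroup 2 P1).exists_le_sylow
  obtain ⟨g, hg⟩ := MulAction.exists_smul_eq G Q S
  have hle : P1.map (MulAut.conj g).toMonoidHom ≤ (S : Subgroup G) := by
    rintro _ ⟨u, hu, rfl⟩
    rw [← hg]
    exact ⟨u, hQ hu, rfl⟩
  have h2 : Nat.card P0 ≤ 2 ^ k * Nat.card (SquareGen.sq P0) := by
    have := h _ hle
    rwa [← map_sq (MulAut.conj g).toMonoidHom,
      Subgroup.card_map_of_injective (f := (MulAut.conj g).toMonoidHom) (MulAut.conj g).injective,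
      Subgroup.card_map_of_injective (f := (MulAut.conj g).toMonoidHom) (MulAut.conj g).injective, hP1,
      ← map_sq H.subtype,
      Subgroup.card_map_of_injective H.subtype_injective,
      Subgroup.card_map_of_injective H.subtype_injective] at this
  have hbot : SquareGen.sq A = ⊥ := by
    rw [SquareGen.sq, Subgroup.closure_eq_bot_iff]
    rintro _ ⟨a, ha, rfl⟩
    exact hexp a ha
  have h1 : Nat.card P0 = Nat.card A * Nat.card (P0 ⊓ f.ker : Subgroup H) := by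
    rw [card_split P0 f, hmap]
  have h3 : SquareGen.sq P0 ≤ P0 ⊓ f.ker :=
    le_inf (sq_le _) ((Subgroup.map_eq_bot_iff _).1 (by rw [map_sq, hmap, hbot]))
  have h4 := h2.trans (Nat.mul_le_mul_left _ (Subgroup.card_le_of_le h3))
  rw [h1] at h4
  exact Nat.le_of_mul_le_mul_right h4 Nat.card_pos

/-- The standing data: `T` is the product of `D` and `B`, and `D` has a cyclic subgroup of index two. -/
structure Product (T D B : Subgroup G) (c : G) : Prop where
  prod : Cfsg.IsInternalDirectProduct D B T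
  cmem : c ∈ D
  cardD : Nat.card D = 2 * orderOf c
  Bsq : ∀ b ∈ B, b * b = 1
  cardB : Nat.card B = 4

namespace Product

variable {T D B : Subgroup G} {c : G}

theorem Bcomm (h : Product T D B c) {a b : G} (ha : a ∈ B) (hb : b ∈ B) : a * b = b * a := by
  have h1 := h.Bsq _ (B.mul_mem ha hb)
  calc a * b = (a * b)⁻¹ := (inv_eq_of_mul_eq_one_right h1).symm
    _ = b * a := by
      rw [mul_inv_rev, inv_eq_of_mul_eq_one_right (h.Bsq a ha), inv_eq_of_mul_eq_one_right (h.Bsq b hb)]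

theorem split (h : Product T D B c) {t : G} (ht : t ∈ T) : ∃ d ∈ D, ∃ b ∈ B, t = d * b := by
  obtain ⟨-, -, hcomm, -, hsup⟩ := h.prod
  let φ : D × B →* G := MonoidHom.noncommCoprod D.subtype B.subtype fun d b => hcomm d d.2 b b.2
  have hr : T ≤ φ.range := by
    rw [← hsup]
    exact sup_le (fun d hd => ⟨(⟨d, hd⟩, 1), mul_one d⟩) fun b hb => ⟨(1, ⟨b, hb⟩), one_mul b⟩
  obtain ⟨⟨d, b⟩, hdb⟩ := hr ht
  exact ⟨d, d.2, b, b.2, hdb.symm⟩

theorem central (h : Product T D B c) {b : G} (hb : b ∈ B) {t : G} (ht : t ∈ T) : b * t = t * b := by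
  obtain ⟨d, hd, b', hb', rfl⟩ := h.split ht
  calc b * (d * b') = (b * d) * b' := by group
    _ = d * b * b' := by rw [h.prod.2.2.1 d hd b hb]
    _ = d * b' * b := by rw [mul_assoc, h.Bcomm hb hb', ← mul_assoc]

theorem cardT (h : Product T D B c) : Nat.card T = 4 * Nat.card D := by
  obtain ⟨hDT, hBT, -, hbot, -⟩ := h.prod
  have h1 := card_mul_le hDT hBT
  rw [hbot, Subgroup.card_bot, mul_one, h.cardB] at h1
  have h2 : Nat.card T ≤ Nat.card (D × B) := by
    refine Nat.card_le_card_of_surjective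
      (fun p : D × B => (⟨p.1.1 * p.2.1, T.mul_mem (hDT p.1.2) (hBT p.2.2)⟩ : T)) fun t => ?_
    obtain ⟨d, hd, b, hb, e⟩ := h.split t.2
    exact ⟨(⟨d, hd⟩, ⟨b, hb⟩), Subtype.ext e.symm⟩
  rw [Nat.card_prod, h.cardB] at h2
  omega

theorem card_le_sq (h : Product T D B c) {H : Subgroup G} (hH : H ≤ T) :
    Nat.card H ≤ 16 * Nat.card (SquareGen.sq H) := by
  have hcT : Subgroup.zpowers c ≤ T := Subgroup.zpowers_le.2 (h.prod.1 h.cmem)
  have h1 := card_mul_le hH hcT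
  rw [Nat.card_zpowers, h.cardT, h.cardD] at h1
  have h8 : Nat.card H ≤ 8 * Nat.card (H ⊓ Subgroup.zpowers c : Subgroup G) := by
    have hpos : 0 < orderOf c := orderOf_pos c
    refine Nat.le_of_mul_le_mul_right (h1.trans_eq ?_) hpos
    ring
  haveI : IsCyclic (H ⊓ Subgroup.zpowers c : Subgroup G) :=
    isCyclic_of_injective (Subgroup.inclusion (inf_le_right : H ⊓ Subgroup.zpowers c ≤ Subgroup.zpowers c))
      (Subgroup.inclusion_injective _)
  obtain ⟨d, hd⟩ := (Subgroup.isCyclic_iff_exists_zpowers_eq_top _).1 this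
  have h2 : Nat.card (H ⊓ Subgroup.zpowers c : Subgroup G) ≤ 2 * Nat.card (SquareGen.sq H) := by
    have hdH : d ∈ H := (hd ▸ Subgroup.mem_zpowers d : d ∈ H ⊓ Subgroup.zpowers c).1
    have h3 : orderOf (d ^ 2) ≤ Nat.card (SquareGen.sq H) := by
      rw [← Nat.card_zpowers]
      exact Subgroup.card_le_of_le (Subgroup.zpowers_le.2 (sq_mem hdH))
    rw [← hd, Nat.card_zpowers]
    refine le_trans ?_ (Nat.mul_le_mul_left 2 h3)
    rw [orderOf_pow]
    have hg : Nat.gcd (orderOf d) 2 ∣ 2 := Nat.gcd_dvd_right _ _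
    rcases (Nat.dvd_prime Nat.prime_two).1 hg with e | e <;> rw [e]
    · omega
    · obtain ⟨q, hq⟩ := (e ▸ Nat.gcd_dvd_left (orderOf d) 2 : 2 ∣ orderOf d)
      omega
  omega

end Product

/-- If `T` has odd index in the centraliser of `b`, it holds all 2-elements of a 2-subgroup above it. -/
theorem mem_of_odd {S T : Subgroup G} (hS : IsPGroup 2 S) (hTS : T ≤ S) {b : G}
    (hTb : T ≤ Subgroup.centralizer ({b} : Set G))
    (hodd : Odd (T.relIndex (Subgroup.centralizer ({b} : Set G)))) {s : G} (hs : s ∈ S)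
    (hsb : s * b = b * s) : s ∈ T := by
  haveI : Fact (Nat.Prime 2) := ⟨Nat.prime_two⟩
  set P := S ⊓ Subgroup.centralizer ({b} : Set G) with hP
  have hTP : T ≤ P := le_inf hTS hTb
  have hd : T.relIndex P ∣ T.relIndex (Subgroup.centralizer ({b} : Set G)) :=
    ⟨_, (Subgroup.relIndex_mul_relIndex T P _ hTP inf_le_right).symm⟩
  obtain ⟨k, hk⟩ := (hS.to_le (inf_le_left : P ≤ S)).index (T.subgroupOf P)
  have hone : T.relIndex P = 1 := by
    have hk' : T.relIndex P = 2 ^ k := hk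
    rcases k with - | k
    · exact hk'
    · exfalso
      rw [hk'] at hd
      have : 2 ∣ T.relIndex (Subgroup.centralizer ({b} : Set G)) :=
        (dvd_pow_self 2 k.succ_ne_zero).trans hd
      exact Nat.not_even_iff_odd.2 hodd (even_iff_two_dvd.2 this)
  exact Subgroup.relIndex_eq_one.1 hone ⟨hs, Subgroup.mem_centralizer_singleton_iff.2 hsb⟩

variable {T D B : Subgroup G} {c : G}

/-- A central element of a noncommutative `D` lies in the cyclic subgroup of index two. -/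
theorem mem_zpowers_of_central (h : Product T D B c) (hnc : ¬ ∀ a ∈ D, ∀ a' ∈ D, a * a' = a' * a)
    {d : G} (hd : d ∈ D) (hcd : ∀ a ∈ D, d * a = a * d) : d ∈ Subgroup.zpowers c := by
  by_contra hdc
  have hC : Subgroup.zpowers c ≤ D := Subgroup.zpowers_le.2 h.cmem
  have big : ∀ V : Subgroup G, Subgroup.zpowers c ≤ V → V ≤ D → d ∈ V → V = D := by
    intro V hCV hVD hdV
    refine Subgroup.eq_of_le_of_card_ge hVD ?_
    obtain ⟨k, hk⟩ := Subgroup.card_dvd_of_le hCV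
    have hlt : Nat.card (Subgroup.zpowers c) < Nat.card V := by
      refine lt_of_le_of_ne (Subgroup.card_le_of_le hCV) fun e => hdc ?_
      rw [Subgroup.eq_of_le_of_card_ge hCV e.ge]
      exact hdV
    rw [hk] at hlt ⊢
    rw [h.cardD, ← Nat.card_zpowers, mul_comm 2]
    refine Nat.mul_le_mul_left _ ?_
    by_contra hk2
    interval_cases k <;> simp at hlt
  have h1 : D ⊓ Subgroup.centralizer ({c} : Set G) = D :=
    big _ (Subgroup.zpowers_le.2 ⟨h.cmem, Subgroup.mem_centralizer_singleton_iff.2 rfl⟩) inf_le_left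
      ⟨hd, Subgroup.mem_centralizer_singleton_iff.2 (hcd c h.cmem)⟩
  have h2 : D ⊓ Subgroup.centralizer (D : Set G) = D := by
    refine big _ (Subgroup.zpowers_le.2 ⟨h.cmem, Subgroup.mem_centralizer_iff.2 fun a ha => ?_⟩)
      inf_le_left ⟨hd, Subgroup.mem_centralizer_iff.2 fun a ha => (hcd a ha).symm⟩
    exact Subgroup.mem_centralizer_singleton_iff.1 (h1.symm ▸ ha : a ∈ D ⊓ Subgroup.centralizer ({c} : Set G)).2
  refine hnc fun a ha a' ha' => ?_
  exact Subgroup.mem_centralizer_iff.1 (h2.symm ▸ ha' : a' ∈ D ⊓ Subgroup.centralizer (D : Set G)).2 a ha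

/-- There are at most eight central square-one elements. -/
theorem card_central_le (h : Product T D B c) (hnc : ¬ ∀ a ∈ D, ∀ a' ∈ D, a * a' = a' * a) :
    Nat.card {t : G // t ∈ T ∧ t * t = 1 ∧ ∀ s ∈ T, t * s = s * t} ≤ 8 := by
  classical
  letI := Fintype.ofFinite G
  let U := {u : Subgroup.zpowers c // u ^ 2 = 1}
  have hU : Nat.card U ≤ 2 := by
    rw [Nat.card_eq_fintype_card, Fintype.card_subtype]
    exact IsCyclic.card_pow_eq_one_le two_pos
  refine le_trans (Nat.card_le_card_of_surjective (α := {p : U × B // (p.1.1.1 * p.2.1 : G) ∈ T ∧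
      (p.1.1.1 * p.2.1) * (p.1.1.1 * p.2.1) = 1 ∧ ∀ s ∈ T, p.1.1.1 * p.2.1 * s = s * (p.1.1.1 * p.2.1)})
      (fun p => ⟨p.1.1.1.1 * p.1.2.1, p.2⟩) ?_) ?_
  · rintro ⟨t, ht, ht2, htc⟩
    obtain ⟨d, hd, b, hb, rfl⟩ := h.split ht
    obtain ⟨hDT, hBT, hcomm, hbot, -⟩ := h.prod
    have hb2 := h.Bsq b hb
    have hd2 : d * d = 1 := by
      calc d * d = d * d * (b * b) := by rw [hb2, mul_one]
        _ = d * (d * b) * b := by group
        _ = d * (b * d) * b := by rw [hcomm d hd b hb]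
        _ = 1 := by rw [← ht2]; group
    have hdc : d ∈ Subgroup.zpowers c := by
      refine mem_zpowers_of_central h hnc hd fun a ha => ?_
      have h1 := htc a (hDT ha)
      rw [mul_assoc, ← hcomm a ha b hb, ← mul_assoc, ← mul_assoc] at h1
      exact mul_right_cancel h1
    exact ⟨⟨(⟨⟨d, hdc⟩, Subtype.ext (by rw [pow_two]; exact hd2)⟩, ⟨b, hb⟩), ht, ht2, htc⟩, rfl⟩
  · refine (Nat.card_le_card_of_injective _ Subtype.val_injective).trans ?_
    rw [Nat.card_prod, h.cardB]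
    omega

/-- For noncommutative `D` the subgroup `T` is a full Sylow 2-subgroup. -/
theorem eq_sylow (h : Product T D B c) (hnc : ¬ ∀ a ∈ D, ∀ a' ∈ D, a * a' = a' * a) (S : Sylow 2 G)
    (hTS : T ≤ S) (hTb : ∀ b ∈ B, b ≠ 1 → T ≤ Subgroup.centralizer ({b} : Set G) ∧
      Odd (T.relIndex (Subgroup.centralizer ({b} : Set G)))) : T = S := by
  classical
  haveI : Fact (Nat.Prime 2) := ⟨Nat.prime_two⟩
  by_contra hne
  have hlt : T < (S : Subgroup G) := lt_of_le_of_ne hTS hne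
  obtain ⟨z, hz, hzT⟩ := SetLike.exists_of_lt (Fusion.lt_inf_normalizer S.2.isNilpotent hlt)
  -- an element of the normalizer whose square lies in `T`
  obtain ⟨y, hy, hyT, hy2⟩ : ∃ y ∈ (S : Subgroup G) ⊓ Subgroup.normalizer (T : Set G),
      y ∉ T ∧ y * y ∈ T := by
    obtain ⟨k, hk⟩ := S.2 ⟨z, hz.1⟩
    have hk' : z ^ 2 ^ k = 1 := congrArg Subtype.val hk
    have hex : ∃ j, z ^ 2 ^ j ∈ T := ⟨k, by rw [hk']; exact T.one_mem⟩
    have h0 : Nat.find hex ≠ 0 := fun e => hzT (by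
      have := Nat.find_spec hex
      rwa [e, pow_zero, pow_one] at this)
    obtain ⟨j, hj⟩ := Nat.exists_eq_succ_of_ne_zero h0
    refine ⟨z ^ 2 ^ j, Subgroup.pow_mem _ hz _, Nat.find_min hex (by omega), ?_⟩
    have := Nat.find_spec hex
    rwa [hj, pow_succ, pow_mul, pow_two] at this
  have hnorm : ∀ t ∈ T, y * t * y⁻¹ ∈ T := fun t ht => (Subgroup.mem_normalizer_iff.1 hy.2 t).1 ht
  have hnormi : ∀ t ∈ T, y⁻¹ * t * y ∈ T := fun t ht =>
    (Subgroup.mem_normalizer_iff''.1 hy.2 t).1 ht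
  have hfix : ∀ b ∈ B, y * b * y⁻¹ = b → b = 1 := by
    intro b hb e
    by_contra hb1
    obtain ⟨h1, h2⟩ := hTb b hb hb1
    exact hyT (mem_of_odd S.2 hTS h1 h2 hy.1 (mul_inv_eq_iff_eq_mul.1 e))
  let Z := {t : G // t ∈ T ∧ t * t = 1 ∧ ∀ s ∈ T, t * s = s * t}
  have hconj : ∀ b ∈ B, ∀ s ∈ T, y * b * y⁻¹ * s = s * (y * b * y⁻¹) := by
    intro b hb s hs
    calc y * b * y⁻¹ * s = y * (b * (y⁻¹ * s * y)) * y⁻¹ := by group
      _ = y * ((y⁻¹ * s * y) * b) * y⁻¹ := by rw [h.central hb (hnormi s hs)]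
      _ = s * (y * b * y⁻¹) := by group
  have hBT : B ≤ T := h.prod.2.1
  let F : B → B → G := fun b b' => b.1 * (y * b.1 * y⁻¹) * b'.1
  have hFZ : ∀ b b' : B, F b b' ∈ T ∧ F b b' * F b b' = 1 ∧ ∀ s ∈ T, F b b' * s = s * F b b' := by
    intro b b'
    have m1 := hnorm b.1 (hBT b.2)
    have hc : ∀ s ∈ T, F b b' * s = s * F b b' := by
      intro s hs
      simp only [F]
      rw [mul_assoc, h.central b'.2 hs, ← mul_assoc, mul_assoc b.1, hconj b.1 b.2 s hs, ← mul_assoc b.1,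
        h.central b.2 hs]
      group
    have hm : F b b' ∈ T := T.mul_mem (T.mul_mem (hBT b.2) m1) (hBT b'.2)
    refine ⟨hm, ?_, hc⟩
    have e1 : (y * b.1 * y⁻¹) * (y * b.1 * y⁻¹) = 1 := by
      calc (y * b.1 * y⁻¹) * (y * b.1 * y⁻¹) = y * (b.1 * b.1) * y⁻¹ := by group
        _ = 1 := by rw [h.Bsq _ b.2]; group
    have e2 : (b.1 * (y * b.1 * y⁻¹)) * (b.1 * (y * b.1 * y⁻¹)) = 1 := by
      calc (b.1 * (y * b.1 * y⁻¹)) * (b.1 * (y * b.1 * y⁻¹))
          = b.1 * ((y * b.1 * y⁻¹) * b.1) * (y * b.1 * y⁻¹) := by group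
        _ = (b.1 * b.1) * ((y * b.1 * y⁻¹) * (y * b.1 * y⁻¹)) := by
            rw [hconj b.1 b.2 b.1 (hBT b.2)]; group
        _ = 1 := by rw [h.Bsq _ b.2, e1, mul_one]
    simp only [F]
    calc b.1 * (y * b.1 * y⁻¹) * b'.1 * (b.1 * (y * b.1 * y⁻¹) * b'.1)
        = b.1 * (y * b.1 * y⁻¹) * (b'.1 * (b.1 * (y * b.1 * y⁻¹))) * b'.1 := by group
      _ = (b.1 * (y * b.1 * y⁻¹)) * (b.1 * (y * b.1 * y⁻¹)) * (b'.1 * b'.1) := by
          rw [h.central b'.2 (T.mul_mem (hBT b.2) m1)]; group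
      _ = 1 := by rw [e2, h.Bsq _ b'.2, mul_one]
  have hinj : Function.Injective fun p : B × B => (⟨F p.1 p.2, hFZ p.1 p.2⟩ : Z) := by
    rintro ⟨b₁, b₁'⟩ ⟨b₂, b₂'⟩ e
    have e' : b₁.1 * (y * b₁.1 * y⁻¹) * b₁'.1 = b₂.1 * (y * b₂.1 * y⁻¹) * b₂'.1 :=
      congrArg Subtype.val e
    set b := b₁.1 * b₂.1 with hb
    have hbB : b ∈ B := B.mul_mem b₁.2 b₂.2
    -- the value at the product lies in `B`
    have hprod : b * (y * b * y⁻¹) = b₁'.1 * b₂'.1 := by
      have i1 : (b₁.1 * (y * b₁.1 * y⁻¹) * b₁'.1)⁻¹ = b₁.1 * (y * b₁.1 * y⁻¹) * b₁'.1 :=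
        inv_eq_of_mul_eq_one_right (hFZ b₁ b₁').2.1
      have hX : ∀ s ∈ T, b₁.1 * (y * b₁.1 * y⁻¹) * b₁'.1 * s = s * (b₁.1 * (y * b₁.1 * y⁻¹) * b₁'.1) :=
        (hFZ b₁ b₁').2.2
      have hX2 : b₁.1 * (y * b₁.1 * y⁻¹) * b₁'.1 * (b₁.1 * (y * b₁.1 * y⁻¹) * b₁'.1) = 1 :=
        (hFZ b₁ b₁').2.1
      have c1 : b₂.1 * (y * b₁.1 * y⁻¹) = (y * b₁.1 * y⁻¹) * b₂.1 :=
        (hconj b₁.1 b₁.2 b₂.1 (hBT b₂.2)).symm
      calc b * (y * b * y⁻¹) = b₁.1 * (b₂.1 * (y * b₁.1 * y⁻¹)) * (y * b₂.1 * y⁻¹) := by rw [hb]; group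
        _ = (b₁.1 * (y * b₁.1 * y⁻¹)) * (b₂.1 * (y * b₂.1 * y⁻¹)) := by rw [c1]; group
        _ = (b₁.1 * (y * b₁.1 * y⁻¹)) * ((b₁.1 * (y * b₁.1 * y⁻¹) * b₁'.1) * b₂'.1⁻¹) := by
            rw [e']; group
        _ = ((b₁.1 * (y * b₁.1 * y⁻¹) * b₁'.1) * b₁'.1⁻¹) *
              ((b₁.1 * (y * b₁.1 * y⁻¹) * b₁'.1) * b₂'.1⁻¹) := by group
        _ = b₁'.1⁻¹ * ((b₁.1 * (y * b₁.1 * y⁻¹) * b₁'.1) * (b₁.1 * (y * b₁.1 * y⁻¹) * b₁'.1)) * b₂'.1⁻¹ := by
            rw [hX _ (T.inv_mem (hBT b₁'.2))]; group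
        _ = b₁'.1 * b₂'.1 := by
            rw [hX2, mul_one, inv_eq_of_mul_eq_one_right (h.Bsq _ b₁'.2),
              inv_eq_of_mul_eq_one_right (h.Bsq _ b₂'.2)]
    have hfb : y * (b * (y * b * y⁻¹)) * y⁻¹ = b * (y * b * y⁻¹) := by
      calc y * (b * (y * b * y⁻¹)) * y⁻¹ = (y * b * y⁻¹) * ((y * y) * b * (y * y)⁻¹) := by group
        _ = (y * b * y⁻¹) * b := by rw [← h.central hbB hy2]; group
        _ = b * (y * b * y⁻¹) := hconj b hbB b (hBT hbB)
    have h1 : b₁'.1 * b₂'.1 = 1 := hfix _ (B.mul_mem b₁'.2 b₂'.2) (by rw [← hprod]; exact hfb)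
    have hb1 : b = 1 := by
      refine hfix b hbB ?_
      rw [h1] at hprod
      rw [← inv_eq_of_mul_eq_one_right hprod]
      exact inv_eq_of_mul_eq_one_right (h.Bsq b hbB)
    have r1 : b₁.1 = b₂.1 := by
      rw [hb, mul_eq_one_iff_eq_inv, inv_eq_of_mul_eq_one_right (h.Bsq _ b₂.2)] at hb1
      exact hb1
    have r2 : b₁'.1 = b₂'.1 := by
      rw [mul_eq_one_iff_eq_inv, inv_eq_of_mul_eq_one_right (h.Bsq _ b₂'.2)] at h1
      exact h1
    exact Prod.ext (Subtype.ext r1) (Subtype.ext r2)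
  have h16 := Nat.card_le_card_of_injective _ hinj
  rw [Nat.card_prod, h.cardB] at h16
  have h8 := card_central_le h hnc
  exact absurd (h16.trans h8) (by norm_num)

end Cfsg.Agent.FourCentralSylow
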