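import Cfsg.Agent.Lib.FourCentralSylow.Basic
import Cfsg.Prelude.Def_CaseTheorems

/-!
Harada's lemma on involutions with centraliser Sylow group dihedral by four-group.
-/

set_option autoImplicit false
set_option linter.style.haveILetI false
set_option linter.unusedSectionVars false

namespace Cfsg.Agent.FourCentralSylow

variable {G : Type*} [Group G] [Finite G]

theorem exists_cyclic_of_dihedral {D : Subgroup G} {m : ℕ} (e : D ≃* DihedralGroup m) :
    ∃ c ∈ D, Nat.card D = 2 * orderOf c := by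
  refine ⟨(e.symm (DihedralGroup.r 1) : G), (e.symm _).2, ?_⟩
  rw [Subgroup.orderOf_coe, MulEquiv.orderOf_eq, DihedralGroup.orderOf_r_one, Nat.card_congr e.toEquiv,
    DihedralGroup.nat_card]

theorem exists_cyclic_of_qd {D : Subgroup G} (h : Cfsg.IsQuasiDihedral D) :
    (∃ c ∈ D, Nat.card D = 2 * orderOf c) ∧ ¬ ∀ a ∈ D, ∀ a' ∈ D, a * a' = a' * a := by
  obtain ⟨n, hn, hcard, x, y, hx, -, hyx⟩ := h
  refine ⟨⟨x, x.2, by rw [Subgroup.orderOf_coe, hx, hcard, pow_succ']⟩, fun hc => ?_⟩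
  have e : y * x * y⁻¹ = x := by
    rw [mul_inv_eq_iff_eq_mul]
    exact Subtype.ext (hc _ y.2 _ x.2)
  rw [e] at hyx
  obtain ⟨k, rfl⟩ : ∃ k, n = k + 3 := ⟨n - 3, by omega⟩
  have h1 : 4 ≤ 2 ^ (k + 2) := by
    calc 4 = 2 ^ 2 := by norm_num
      _ ≤ 2 ^ (k + 2) := Nat.pow_le_pow_right two_pos (by omega)
  rw [show k + 3 - 1 = k + 2 by omega] at hyx
  have h2 : x ^ (2 ^ (k + 2) - 2) = 1 := by
    rw [show 2 ^ (k + 2) - 1 = (2 ^ (k + 2) - 2) + 1 by omega, pow_succ] at hyx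
    exact right_eq_mul.1 hyx
  have h3 := Nat.le_of_dvd (by omega) (orderOf_dvd_of_pow_eq_one h2)
  rw [hx, pow_succ] at h3
  omega

theorem dihedral_small {D : Subgroup G} {m : ℕ} (hm : 2 ≤ m) (e : D ≃* DihedralGroup m)
    (hc : ∀ a ∈ D, ∀ a' ∈ D, a * a' = a' * a) : Nat.card D = 4 ∧ ∀ a ∈ D, a * a = 1 := by
  have hcomm : ∀ a b : DihedralGroup m, a * b = b * a := fun a b => by
    apply e.symm.injective
    rw [map_mul, map_mul]
    exact Subtype.ext (hc _ (e.symm a).2 _ (e.symm b).2)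
  have h1 := hcomm (DihedralGroup.r 1) (DihedralGroup.sr 0)
  rw [DihedralGroup.r_mul_sr, DihedralGroup.sr_mul_r, DihedralGroup.sr.injEq, zero_sub, zero_add] at h1
  have h2 : ((2 : ℕ) : ZMod m) = 0 := by
    calc ((2 : ℕ) : ZMod m) = 1 + 1 := by norm_num
      _ = 0 := neg_eq_iff_add_eq_zero.1 h1
  rw [ZMod.natCast_eq_zero_iff] at h2
  obtain rfl : m = 2 := le_antisymm (Nat.le_of_dvd two_pos h2) hm
  refine ⟨by rw [Nat.card_congr e.toEquiv, DihedralGroup.nat_card], fun a ha => ?_⟩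
  have h3 : ∀ g : DihedralGroup 2, g * g = 1 := by decide
  have h4 : (⟨a, ha⟩ : D) * ⟨a, ha⟩ = 1 := e.injective (by rw [map_mul, h3, map_one])
  exact congrArg Subtype.val h4

theorem main (T D B : Subgroup G) (hT : IsPGroup 2 T) (hprod : Cfsg.IsInternalDirectProduct D B T)
    (hD : (∃ m : ℕ, 2 ≤ m ∧ Nonempty (D ≃* DihedralGroup m)) ∨ Cfsg.IsQuasiDihedral D)
    (hBsq : ∀ b ∈ B, b * b = 1) (hBcard : Nat.card B = 4)
    (hTb : ∀ b ∈ B, b ≠ 1 → T ≤ Subgroup.centralizer ({b} : Set G) ∧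
      Odd (T.relIndex (Subgroup.centralizer ({b} : Set G)))) : Cfsg.SectionalPRankLE 2 4 G := by
  classical
  obtain ⟨S, hTS⟩ := hT.exists_le_sylow
  obtain ⟨c, hc, hcard⟩ : ∃ c ∈ D, Nat.card D = 2 * orderOf c := by
    rcases hD with ⟨m, -, ⟨e⟩⟩ | h
    · exact exists_cyclic_of_dihedral e
    · exact (exists_cyclic_of_qd h).1
  have hP : Product T D B c := ⟨hprod, hc, hcard, hBsq, hBcard⟩
  by_cases hnc : ∀ a ∈ D, ∀ a' ∈ D, a * a' = a' * a
  · rcases hD with ⟨m, hm, ⟨e⟩⟩ | h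
    swap
    · exact absurd hnc (exists_cyclic_of_qd h).2
    obtain ⟨hD4, hDsq⟩ := dihedral_small hm e hnc
    have hT16 : Nat.card T = 16 := by rw [hP.cardT, hD4]
    have hTsq : ∀ t ∈ T, t * t = 1 := by
      intro t ht
      obtain ⟨d, hd, b, hb, rfl⟩ := hP.split ht
      calc d * b * (d * b) = d * (b * d) * b := by group
        _ = (d * d) * (b * b) := by rw [← hprod.2.2.1 d hd b hb]; group
        _ = 1 := by rw [hDsq d hd, hBsq b hb, mul_one]
    have h16 : Sixteen (S : Subgroup G) T B :=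
      ⟨S.2, hTS, hTsq, hT16, hprod.2.1, hBcard, fun b hb hb1 s hs hsb =>
        mem_of_odd S.2 hTS (hTb b hb hb1).1 (hTb b hb hb1).2 hs hsb⟩
    exact sectional_of_sylow S fun H hH => by simpa using h16.card_le_sq hH
  · have hTeq := eq_sylow hP hnc S hTS hTb
    exact sectional_of_sylow S fun H hH => by simpa using hP.card_le_sq (hTeq.symm ▸ hH)

end Cfsg.Agent.FourCentralSylow
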